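import Mathlib
import Cfsg.Prelude.Def_Involutions
import Cfsg.Agent.H30.Basic

/-!
No offenders on a faithful module over `GF(2)` for a group with a strongly embedded subgroup in
which no involution inverts an element of order three.
-/

set_option autoImplicit false

open scoped Pointwise

namespace H82.SFree

universe u v

variable {G : Type u} [Group G] {V : Type v} [AddCommGroup V] [DistribMulAction G V]

/-- The vectors fixed by a subgroup. -/
def fixV (A : Subgroup G) : AddSubgroup V where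
  carrier := {v | ∀ a ∈ A, a • v = v}
  zero_mem' := fun a _ => smul_zero a
  add_mem' := fun hx hy a ha => by rw [smul_add, hx a ha, hy a ha]
  neg_mem' := fun hx a ha => by rw [smul_neg, hx a ha]

theorem mem_fixV {A : Subgroup G} {v : V} : v ∈ fixV A ↔ ∀ a ∈ A, a • v = v := Iff.rfl

/-- No involution inverts an element of order three. -/
def NoThree (G : Type u) [Group G] : Prop :=
  ∀ a y : G, a * a = 1 → orderOf y = 3 → a * y * a⁻¹ ≠ y⁻¹

theorem NoThree.subgroup (h : NoThree G) (H : Subgroup G) : NoThree H := fun a y ha hy he =>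
  h a y (congrArg Subtype.val ha) (by rw [Subgroup.orderOf_coe, hy]) (congrArg Subtype.val he)

theorem card_eq_two_pow {A : Subgroup G} [Finite G] (hA : ∀ a ∈ A, a * a = 1) :
    IsPGroup 2 A := fun x =>
  ⟨1, Subtype.ext (by rw [pow_one, pow_two]; exact hA x x.2)⟩

theorem comm_of_sq {A : Subgroup G} (hA : ∀ a ∈ A, a * a = 1) {a b : G} (ha : a ∈ A) (hb : b ∈ A) :
    a * b = b * a := by
  have h1 := hA _ (A.mul_mem ha hb)
  calc a * b = (a * b)⁻¹ := (inv_eq_of_mul_eq_one_right h1).symm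
    _ = b⁻¹ * a⁻¹ := mul_inv_rev a b
    _ = b * a := by rw [inv_eq_of_mul_eq_one_right (hA b hb), inv_eq_of_mul_eq_one_right (hA a ha)]

theorem sq_disp (hV : ∀ v : V, v + v = 0) {a : G} (ha : a * a = 1) (v : V) :
    a • (a • v - v) = a • v - v := by
  have hn : ∀ w : V, -w = w := fun w => neg_eq_of_add_eq_zero_left (hV w)
  rw [smul_sub, ← mul_smul, ha, one_smul, ← neg_sub (a • v) v, hn]

/-- The order three element from two involutions chained on a four-group. -/
theorem three_of_chain (hV : ∀ v : V, v + v = 0) (h3 : NoThree G) {a b : G} (ha : a * a = 1)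
    (hb : b * b = 1) {u w : V} (hu : u ≠ 0) (hau : a • u = u) (haw : a • w = w + u)
    (hbw : b • w = w) (hbu : b • u = u + w) (hfin : IsOfFinOrder (a * b)) : False := by
  have hw : w ≠ 0 := by
    rintro rfl
    rw [smul_zero, zero_add] at haw
    exact hu haw.symm
  set x := a * b with hx
  have x1 : x • u = w := by
    rw [hx, mul_smul, hbu, smul_add, hau, haw, add_left_comm, hV, add_zero]
  have x2 : x • w = u + w := by rw [hx, mul_smul, hbw, haw, add_comm]
  have x3 : (x ^ 3) • u = u := by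
    rw [pow_succ, pow_two, mul_smul, mul_smul, x1, x2, smul_add, x1, x2, add_left_comm, hV, add_zero]
  have x3k : ∀ k : ℕ, (x ^ (3 * k)) • u = u := by
    intro k
    induction k with
    | zero => simp
    | succ k ih => rw [mul_add, mul_one, pow_add, mul_smul, x3, ih]
  have hm : 3 ∣ orderOf x := by
    by_contra hcon
    have h := pow_orderOf_eq_one x
    rw [← Nat.mod_add_div (orderOf x) 3, pow_add] at h
    have h1 := congrArg (fun g : G => g • u) h
    simp only [one_smul, mul_smul, x3k] at h1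
    have hr : orderOf x % 3 = 1 ∨ orderOf x % 3 = 2 := by omega
    rcases hr with hr | hr
    · rw [hr, pow_one, x1] at h1
      rw [h1, hau] at haw
      exact hu (add_eq_left.1 haw.symm)
    · rw [hr, pow_two, mul_smul, x1, x2] at h1
      exact hw (add_eq_left.1 h1)
  set y := x ^ (orderOf x / 3) with hy
  have hy3 : orderOf y = 3 := by
    have hpos := hfin.orderOf_pos
    obtain ⟨c, hc⟩ := hm
    have hc0 : c ≠ 0 := fun h => by rw [h, mul_zero] at hc; omega
    rw [hy, orderOf_pow' x (by rw [hc, Nat.mul_div_cancel_left _ (by norm_num)]; exact hc0), hc,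
      Nat.mul_div_cancel_left _ (by norm_num), Nat.gcd_eq_right (dvd_mul_left c 3),
      Nat.mul_div_cancel _ (Nat.pos_of_ne_zero hc0)]
  refine h3 a y ha hy3 ?_
  have hxinv : a * x * a⁻¹ = x⁻¹ := by
    rw [hx, mul_inv_rev, inv_eq_of_mul_eq_one_right ha, inv_eq_of_mul_eq_one_right hb, ← mul_assoc, ha,
      one_mul]
  rw [hy, ← conj_pow, hxinv, inv_pow]

section StronglyEmbedded

variable [Finite G] {M : Subgroup G}

theorem se_not_mem (hM : Cfsg.IsStronglyEmbedded M) {t g : G} (ht : orderOf t = 2) (htM : t ∈ M)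
    (htg : g⁻¹ * t * g ∈ M) : g ∈ M := by
  by_contra hg
  have hmem : t ∈ M ⊓ M.map (MulAut.conj g).toMonoidHom :=
    ⟨htM, ⟨_, htg, by simp [mul_assoc]⟩⟩
  have hd : orderOf (⟨t, hmem⟩ : ↥(M ⊓ M.map (MulAut.conj g).toMonoidHom)) ∣
      Nat.card ↥(M ⊓ M.map (MulAut.conj g).toMonoidHom) := orderOf_dvd_natCard _
  rw [← Subgroup.orderOf_coe, ht] at hd
  exact (Nat.not_even_iff_odd.2 (hM.2.2 g hg)) (even_iff_two_dvd.2 hd)

theorem se_conj (hM : Cfsg.IsStronglyEmbedded M) (h : G) :
    Cfsg.IsStronglyEmbedded (M.map (MulAut.conj h).toMonoidHom) := by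
  refine ⟨fun e => hM.1 ?_, ?_, fun g hg => ?_⟩
  · apply Subgroup.map_injective (f := (MulAut.conj h).toMonoidHom) (MulAut.conj h).injective
    rw [e, Subgroup.map_top_of_surjective _ (MulAut.conj h).surjective]
  · rw [Subgroup.card_map_of_injective (MulAut.conj h).injective]; exact hM.2.1
  · have hg' : h⁻¹ * g * h ∉ M := fun hm => hg ⟨_, hm, by simp [mul_assoc]⟩
    have e : M.map (MulAut.conj h).toMonoidHom ⊓
        (M.map (MulAut.conj h).toMonoidHom).map (MulAut.conj g).toMonoidHom =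
        (M ⊓ M.map (MulAut.conj (h⁻¹ * g * h)).toMonoidHom).map (MulAut.conj h).toMonoidHom := by
      rw [Subgroup.map_inf _ _ _ (MulAut.conj h).injective]
      congr 1
      rw [Subgroup.map_map, Subgroup.map_map]
      congr 1
      ext x
      simp [mul_assoc]
    rw [e, Subgroup.card_map_of_injective (MulAut.conj h).injective]
    exact hM.2.2 _ hg'

theorem se_restrict (hM : Cfsg.IsStronglyEmbedded M) (K : Subgroup G) (hK : ¬ K ≤ M) {t : G}
    (ht : orderOf t = 2) (htK : t ∈ K) (htM : t ∈ M) : Cfsg.IsStronglyEmbedded (M.subgroupOf K) := by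
  refine ⟨fun e => hK fun x hx => ?_, ?_, fun g hg => ?_⟩
  · have : (⟨x, hx⟩ : K) ∈ M.subgroupOf K := e ▸ Subgroup.mem_top _
    exact this
  · have hd : orderOf (⟨⟨t, htK⟩, htM⟩ : ↥(M.subgroupOf K)) ∣ Nat.card ↥(M.subgroupOf K) :=
      orderOf_dvd_natCard _
    rw [← Subgroup.orderOf_coe, ← Subgroup.orderOf_coe, ht] at hd
    exact even_iff_two_dvd.2 hd
  · refine (hM.2.2 (g : G) hg).of_dvd_nat ?_
    rw [← Subgroup.card_map_of_injective K.subtype_injective]
    refine Subgroup.card_dvd_of_le ?_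
    rintro _ ⟨z, ⟨hz1, y, hy, rfl⟩, rfl⟩
    exact ⟨hz1, ⟨(y : G), hy, by simp⟩⟩

theorem se_normal_two (hM : Cfsg.IsStronglyEmbedded M) (N : Subgroup G) [N.Normal]
    (hN : IsPGroup 2 N) : N = ⊥ := by
  haveI : Fact (Nat.Prime 2) := ⟨Nat.prime_two⟩
  obtain ⟨z, hz⟩ := exists_prime_orderOf_dvd_card' (G := M) 2 (even_iff_two_dvd.1 hM.2.1)
  rw [← Subgroup.orderOf_coe] at hz
  by_contra hne
  -- some involution of `N` commutes with `z`
  have hzz : z.1 * z.1 = 1 := by rw [← pow_two, ← hz, pow_orderOf_eq_one]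
  obtain ⟨n, hnN, hn, hnz⟩ : ∃ n ∈ N, orderOf n = 2 ∧ n * z.1 = z.1 * n := by
    haveI : Nontrivial N := (Subgroup.nontrivial_iff_ne_bot N).2 hne
    haveI : Nontrivial (N ⊔ Subgroup.zpowers z.1 : Subgroup G) := by
      refine (Subgroup.nontrivial_iff_ne_bot _).2 fun e => hne (le_bot_iff.1 (e ▸ le_sup_left))
    have hP : IsPGroup 2 (N ⊔ Subgroup.zpowers z.1 : Subgroup G) := by
      refine hN.to_sup_of_normal_left (IsPGroup.of_card (n := 1) ?_)
      rw [Nat.card_zpowers, hz, pow_one]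
    let N' : Subgroup (N ⊔ Subgroup.zpowers z.1 : Subgroup G) := N.subgroupOf _
    haveI : N'.Normal := inferInstance
    have hN' : IsPGroup 2 N' := hP.to_subgroup _
    haveI : Nontrivial N' := by
      refine (Subgroup.nontrivial_iff_ne_bot _).2 fun e => hne ?_
      rw [Subgroup.subgroupOf_eq_bot, disjoint_iff, inf_eq_left.2 le_sup_left] at e
      exact e
    have hnc : N' ⊓ Subgroup.center _ ≠ ⊥ :=
      H30.inf_center_ne_bot hP (inferInstance : N'.Normal) ((Subgroup.nontrivial_iff_ne_bot _).1 inferInstance)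
    haveI := (Subgroup.nontrivial_iff_ne_bot _).2 hnc
    have h2 : 2 ∣ Nat.card ↥(N' ⊓ Subgroup.center _) := by
      obtain ⟨k, hk, hk'⟩ := (hP.to_subgroup (N' ⊓ Subgroup.center _)).nontrivial_iff_card.1 inferInstance
      rw [hk']; exact dvd_pow_self 2 (by omega)
    obtain ⟨n, hn⟩ := exists_prime_orderOf_dvd_card' 2 h2
    refine ⟨n.1.1, n.2.1, by rw [Subgroup.orderOf_coe, Subgroup.orderOf_coe, hn], ?_⟩
    exact (congrArg Subtype.val
      (Subgroup.mem_center_iff.1 n.2.2 ⟨z.1, le_sup_right (b := Subgroup.zpowers z.1) (Subgroup.mem_zpowers _)⟩)).symm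
  have hnM : n ∈ M := by
    refine se_not_mem hM hz z.2 ?_
    rw [mul_assoc, ← hnz, ← mul_assoc, inv_mul_cancel, one_mul]
    exact z.2
  -- `N` lies in `M`
  have hNM : N ≤ M := by
    by_contra hcon
    haveI : Group.IsNilpotent N := hN.isNilpotent
    have hlt : M.subgroupOf N < ⊤ := by
      rw [lt_top_iff_ne_top, Ne, Subgroup.subgroupOf_eq_top]
      exact hcon
    obtain ⟨x, hx, hxM⟩ := SetLike.exists_of_lt (Group.normalizerCondition_of_isNilpotent _ hlt)
    refine hxM (se_not_mem hM hn hnM ?_)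
    have h := (Subgroup.mem_normalizer_iff'.1 (inv_mem hx) ⟨n, hnN⟩)
    have h' := (Subgroup.mem_normalizer_iff.1 (inv_mem hx) ⟨n, hnN⟩).1 hnM
    simpa [Subgroup.mem_subgroupOf] using h'
  obtain ⟨g, hg⟩ : ∃ g, g ∉ M := by
    by_contra h; push Not at h; exact hM.1 (eq_top_iff.2 fun x _ => h x)
  refine hg (se_not_mem hM hn hnM (hNM ?_))
  simpa using (inferInstance : N.Normal).conj_mem n hnN g⁻¹

theorem se_exists_conj (hM : Cfsg.IsStronglyEmbedded M) {A : Subgroup G} (hA : IsPGroup 2 A) :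
    ∃ h : G, A ≤ M.map (MulAut.conj h).toMonoidHom := by
  haveI : Fact (Nat.Prime 2) := ⟨Nat.prime_two⟩
  obtain ⟨P⟩ : Nonempty (Sylow 2 M) := inferInstance
  have hP' : IsPGroup 2 ((P : Subgroup M).map M.subtype) := P.isPGroup'.map _
  obtain ⟨Q, hQ⟩ := hP'.exists_le_sylow
  have hQM : (Q : Subgroup G) ≤ M := by
    by_contra hcon
    haveI : Group.IsNilpotent (Q : Subgroup G) := Q.isPGroup'.isNilpotent
    have hlt : M.subgroupOf Q < ⊤ := by
      rw [lt_top_iff_ne_top, Ne, Subgroup.subgroupOf_eq_top]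
      exact hcon
    obtain ⟨x, hx, hxM⟩ := SetLike.exists_of_lt (Group.normalizerCondition_of_isNilpotent _ hlt)
    have h2 : 2 ∣ Nat.card (P : Subgroup M) :=
      Sylow.dvd_card_of_dvd_card P (even_iff_two_dvd.1 hM.2.1)
    obtain ⟨t, ht⟩ := exists_prime_orderOf_dvd_card' 2 h2
    have htQ : (t.1.1 : G) ∈ (Q : Subgroup G) := hQ ⟨_, t.2, rfl⟩
    refine hxM (se_not_mem hM (t := t.1.1) (by rw [Subgroup.orderOf_coe, Subgroup.orderOf_coe, ht]) t.1.2 ?_)
    have h' := (Subgroup.mem_normalizer_iff.1 (inv_mem hx) ⟨_, htQ⟩).1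
      (show (⟨_, htQ⟩ : (Q : Subgroup G)) ∈ M.subgroupOf Q from t.1.2)
    simpa [Subgroup.mem_subgroupOf] using h'
  obtain ⟨R, hR⟩ := hA.exists_le_sylow
  obtain ⟨h, rfl⟩ := MulAction.exists_smul_eq G Q R
  refine ⟨h, hR.trans ?_⟩
  rintro _ ⟨y, hy, rfl⟩
  exact ⟨y, hQM hy, rfl⟩

end StronglyEmbedded

/-- Replacement: from an offender of least order the action is quadratic. -/
theorem quadratic_of_minimal [Finite G] [Finite V] (hV : ∀ v : V, v + v = 0) {A : Subgroup G}
    (hA : ∀ a ∈ A, a * a = 1) (hoff : Nat.card V ≤ Nat.card A * Nat.card (fixV A : AddSubgroup V))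
    (hmin : ∀ B : Subgroup G, B ≠ ⊥ → B ≤ A → B ≠ A →
      Nat.card B * Nat.card (fixV B : AddSubgroup V) < Nat.card V) :
    ∀ a ∈ A, ∀ v : V, a • v - v ∈ fixV (V := V) A := by
  classical
  set U : AddSubgroup V := fixV A with hU
  by_contra hcon
  push Not at hcon
  obtain ⟨a₀, ha₀, v₀, hv₀⟩ := hcon
  have hcomm : ∀ a ∈ A, ∀ b ∈ A, ∀ v : V, a • (b • v - v) - (b • v - v) = b • (a • v - v) - (a • v - v) := by
    intro a ha b hb v
    rw [smul_sub, smul_sub, ← mul_smul, ← mul_smul, comm_of_sq hA ha hb]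
    abel
  let Bad : Set V := {v | ∃ a ∈ A, a • v - v ∉ U}
  let T : V → ℕ := fun v => {a ∈ (A : Set G) | ∀ b ∈ A, b • (a • v - v) - (a • v - v) ∈ U}.ncard
  obtain ⟨v, hv, hvmax⟩ := (Set.toFinite Bad).exists_maximalFor T Bad ⟨v₀, a₀, ha₀, hv₀⟩
  -- all displacements of `v` lie in the second layer
  have h2 : ∀ a ∈ A, ∀ b ∈ A, b • (a • v - v) - (a • v - v) ∈ U := by
    by_contra h2
    push Not at h2
    obtain ⟨a, ha, b, hb, hab⟩ := h2
    set w := a • v - v with hw
    have hwB : w ∈ Bad := ⟨b, hb, hab⟩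
    have hlt : T v < T w := by
      refine Set.ncard_lt_ncard ?_ (Set.toFinite _)
      refine ⟨fun t ⟨ht, ht'⟩ => ⟨ht, fun c hc => ?_⟩, fun hsub => ?_⟩
      · rw [hw, hcomm t ht a ha v, hcomm c hc a ha (t • v - v)]
        rw [mem_fixV.1 (ht' c hc) a ha, sub_self]
        exact U.zero_mem
      · have haw : a ∈ {a ∈ (A : Set G) | ∀ b ∈ A, b • (a • w - w) - (a • w - w) ∈ U} := by
          refine ⟨ha, fun c hc => ?_⟩
          rw [hw, sq_disp hV (hA a ha), sub_self, smul_zero, sub_zero]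
          exact U.zero_mem
        exact hab ((hsub haw).2 b hb)
    exact absurd (hvmax hwB hlt.le) (not_le.2 hlt)
  let φ : A →* Multiplicative (V ⧸ U) :=
    { toFun := fun a => Multiplicative.ofAdd (QuotientAddGroup.mk ((a : G) • v - v))
      map_one' := by simp
      map_mul' := fun a b => by
        rw [← ofAdd_add, ← QuotientAddGroup.mk_add]
        refine congrArg Multiplicative.ofAdd ((QuotientAddGroup.eq_iff_sub_mem).2 ?_)
        have := h2 b b.2 a a.2
        rw [smul_sub, ← mul_smul] at this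
        rw [Subgroup.coe_mul]
        convert this using 1
        abel }
  let B : Subgroup G := φ.ker.map A.subtype
  have hBA : B ≤ A := Subgroup.map_subtype_le _
  let R : AddSubgroup (V ⧸ U) := φ.range.toAddSubgroup'
  let X : AddSubgroup V := R.comap (QuotientAddGroup.mk' U)
  have hXB : X ≤ fixV B := by
    rintro x ⟨a, ha⟩ _ ⟨b, hb, rfl⟩
    have ha' : (QuotientAddGroup.mk ((a : G) • v - v) : V ⧸ U) = QuotientAddGroup.mk x :=
      congrArg Multiplicative.toAdd ha
    rw [QuotientAddGroup.eq_iff_sub_mem] at ha'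
    have hbU : (b : G) • v - v ∈ U := by
      have := congrArg Multiplicative.toAdd (MonoidHom.mem_ker.1 hb)
      exact (QuotientAddGroup.eq_zero_iff _).1 this
    have e1 : (b : G) • ((a : G) • v - v) - ((a : G) • v - v) = 0 := by
      rw [hcomm b b.2 a a.2 v, mem_fixV.1 hbU a a.2, sub_self]
    have e2 := mem_fixV.1 ha' b b.2
    rw [smul_sub, sub_eq_zero.1 e1] at e2
    show (b : G) • x = x
    simpa using sub_right_injective e2
  have hXcard : Nat.card X = Nat.card φ.range * Nat.card U := by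
    let f : X →+ R := ((QuotientAddGroup.mk' U).comp X.subtype).codRestrict R fun x => x.2
    have hf : Function.Surjective f := fun ⟨q, hq⟩ => by
      obtain ⟨x, rfl⟩ := QuotientAddGroup.mk_surjective q
      exact ⟨⟨x, hq⟩, rfl⟩
    rw [AddSubgroup.card_eq_card_quotient_mul_card_addSubgroup f.ker,
      Nat.card_congr (QuotientAddGroup.quotientKerEquivOfSurjective f hf).toEquiv]
    congr 1
    refine Nat.card_congr
      { toFun := fun x => ⟨x.1.1, (QuotientAddGroup.eq_zero_iff _).1 (congrArg Subtype.val x.2)⟩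
        invFun := fun u => ⟨⟨u.1, by
          show QuotientAddGroup.mk u.1 ∈ R
          rw [(QuotientAddGroup.eq_zero_iff _).2 u.2]; exact R.zero_mem⟩,
          Subtype.ext ((QuotientAddGroup.eq_zero_iff _).2 u.2)⟩
        left_inv := fun _ => rfl
        right_inv := fun _ => rfl }
  have hAcard : Nat.card A = Nat.card φ.range * Nat.card B := by
    rw [Subgroup.card_eq_card_quotient_mul_card_subgroup φ.ker,
      Nat.card_congr (QuotientGroup.quotientKerEquivRange φ).toEquiv,
      Subgroup.card_map_of_injective A.subtype_injective]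
  have hR1 : 1 < Nat.card φ.range := by
    obtain ⟨a, ha, hav⟩ := hv
    by_contra hle
    haveI : Subsingleton φ.range :=
      (Nat.card_eq_one_iff_unique.1 (le_antisymm (not_lt.1 hle) Nat.card_pos)).1
    have h0 : φ ⟨a, ha⟩ = 1 :=
      congrArg Subtype.val (Subsingleton.elim (⟨_, ⟨_, rfl⟩⟩ : φ.range) 1)
    exact hav ((QuotientAddGroup.eq_zero_iff _).1 (congrArg Multiplicative.toAdd h0))
  by_cases hB : B = ⊥
  · rw [hB, Subgroup.card_bot, mul_one] at hAcard
    have hXV : X = ⊤ := AddSubgroup.eq_top_of_le_card X (by rw [hXcard, ← hAcard]; exact hoff)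
    obtain ⟨a, ha⟩ : v ∈ X := hXV ▸ AddSubgroup.mem_top v
    obtain ⟨c, hc, hcv⟩ := hv
    refine hcv ?_
    have ha' : (QuotientAddGroup.mk ((a : G) • v - v) : V ⧸ U) = QuotientAddGroup.mk v :=
      congrArg Multiplicative.toAdd ha
    rw [QuotientAddGroup.eq_iff_sub_mem] at ha'
    have e := mem_fixV.1 ha' c hc
    rw [smul_sub] at e
    have h := h2 a a.2 c hc
    have e' : c • ((a : G) • v - v) - ((a : G) • v - v) = c • v - v := by
      rw [sub_eq_sub_iff_sub_eq_sub]; exact e
    rwa [e'] at h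
  · have hBne : B ≠ A := fun e => by
      rw [e] at hAcard
      have := Nat.card_pos (α := A)
      nlinarith
    have h1 := hmin B hB hBA hBne
    have h3 : Nat.card φ.range * Nat.card U ≤ Nat.card (fixV B : AddSubgroup V) :=
      hXcard ▸ AddSubgroup.card_le_of_le hXB
    have h4 := Nat.mul_le_mul_left (Nat.card B) h3
    rw [hAcard] at hoff
    nlinarith

/-- No offenders. -/
theorem noFF_aux : ∀ n : ℕ, ∀ (G : Type u) [Group G] [Finite G] (V : Type v) [AddCommGroup V] [Finite V]
    [DistribMulAction G V], Nat.card G + Nat.card V = n → (∀ v : V, v + v = 0) →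
    (∀ g : G, (∀ v : V, g • v = v) → g = 1) → NoThree G →
    (∃ M : Subgroup G, Cfsg.IsStronglyEmbedded M) →
    ∀ A : Subgroup G, (∀ a ∈ A, a * a = 1) → A ≠ ⊥ →
      Nat.card A * Nat.card (fixV A : AddSubgroup V) < Nat.card V := by
  intro n
  induction n using Nat.strong_induction_on with
  | _ n ih =>
  intro G _ _ V _ _ _ hn hV hfaith h3 hse A₀ hA₀ hA₀1
  by_contra hcon
  rw [not_lt] at hcon
  classical
  haveI : Fact (Nat.Prime 2) := ⟨Nat.prime_two⟩
  -- no common fixed vector
  have hfix0 : ∀ w : V, (∀ g : G, g • w = w) → w = 0 := by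
    intro w hw
    by_contra hw0
    set Z : AddSubgroup V := fixV (⊤ : Subgroup G) with hZ
    have hwZ : w ∈ Z := fun g _ => hw g
    have hZfix : ∀ g : G, ∀ z ∈ Z, g • z = z := fun g z hz => hz g (Subgroup.mem_top g)
    letI act : DistribMulAction G (V ⧸ Z) :=
      { smul := fun g q => QuotientAddGroup.map Z Z (DistribSMul.toAddMonoidHom V g)
          (fun z hz => by
            show g • z ∈ Z
            rw [hZfix g z hz]; exact hz) q
        one_smul := fun q => by
          induction q using QuotientAddGroup.induction_on with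
          | H x => exact congrArg QuotientAddGroup.mk (one_smul G x)
        mul_smul := fun g h q => by
          induction q using QuotientAddGroup.induction_on with
          | H x => exact congrArg QuotientAddGroup.mk (mul_smul g h x)
        smul_zero := fun g => congrArg QuotientAddGroup.mk (smul_zero g)
        smul_add := fun g q q' => map_add _ q q' }
    have hmk : ∀ (g : G) (x : V), g • (QuotientAddGroup.mk x : V ⧸ Z) = QuotientAddGroup.mk (g • x) :=
      fun _ _ => rfl
    have hf : ∀ g : G, (∀ q : V ⧸ Z, g • q = q) → g = 1 := by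
      let N : Subgroup G :=
        { carrier := {g | ∀ q : V ⧸ Z, g • q = q}
          one_mem' := fun q => one_smul G q
          mul_mem' := fun hg hh q => by rw [mul_smul, hh q, hg q]
          inv_mem' := fun {g} hg q => by rw [inv_smul_eq_iff, hg q] }
      haveI : N.Normal := ⟨fun g hg h q => by rw [mul_smul, mul_smul, hg, smul_inv_smul]⟩
      have hN : IsPGroup 2 N := fun g => ⟨1, Subtype.ext (hfaith _ fun v => by
        have h1 := (QuotientAddGroup.eq_iff_sub_mem).1 ((hmk g v).symm.trans (g.2 (QuotientAddGroup.mk v)))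
        have h2 := hZfix g _ h1
        rw [Subgroup.coe_pow, pow_one, pow_two, mul_smul]
        rw [smul_sub, sub_eq_iff_eq_add] at h2
        rw [h2, sub_add_eq_add_sub, hV, zero_sub, neg_eq_of_add_eq_zero_left (hV v)])⟩
      obtain ⟨M, hM⟩ := hse
      intro g hg
      have : g ∈ N := hg
      rw [se_normal_two hM N hN, Subgroup.mem_bot] at this
      exact this
    have hcard : Nat.card V = Nat.card (V ⧸ Z) * Nat.card Z := AddSubgroup.card_eq_card_quotient_mul_card_addSubgroup Z
    have hlt : Nat.card G + Nat.card (V ⧸ Z) < n := by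
      haveI : Nontrivial Z := ⟨⟨⟨w, hwZ⟩, 0, fun e => hw0 (congrArg Subtype.val e)⟩⟩
      have h2 := Finite.one_lt_card (α := Z)
      have h4 := Nat.card_pos (α := V ⧸ Z)
      nlinarith
    have hV' : ∀ q : V ⧸ Z, q + q = 0 := fun q => by
      induction q using QuotientAddGroup.induction_on with
      | H x => rw [← QuotientAddGroup.mk_add, hV, QuotientAddGroup.mk_zero]
    have key := ih _ hlt G (V ⧸ Z) rfl hV' hf h3 hse A₀ hA₀ hA₀1
    have hle : Nat.card (fixV A₀ : AddSubgroup V) ≤ Nat.card (fixV A₀ : AddSubgroup (V ⧸ Z)) * Nat.card Z := by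
      let f : (fixV A₀ : AddSubgroup V) →+ (fixV A₀ : AddSubgroup (V ⧸ Z)) :=
        ((QuotientAddGroup.mk' Z).comp (fixV A₀ : AddSubgroup V).subtype).codRestrict _
          (fun x a ha => (hmk a x.1).trans (congrArg QuotientAddGroup.mk (x.2 a ha)))
      rw [AddSubgroup.card_eq_card_quotient_mul_card_addSubgroup f.ker,
        Nat.card_congr (QuotientAddGroup.quotientKerEquivRange f).toEquiv]
      refine Nat.mul_le_mul (Nat.card_le_card_of_injective _ f.range.subtype_injective) ?_
      exact Nat.card_le_card_of_injective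
        (fun x : f.ker => (⟨x.1.1, (QuotientAddGroup.eq_zero_iff _).1 (congrArg Subtype.val x.2)⟩ : Z))
        (fun x y e => Subtype.ext (Subtype.ext (congrArg Subtype.val e :)))
    have h3' := Nat.mul_le_mul_left (Nat.card A₀) hle
    have h5 := Nat.card_pos (α := Z)
    nlinarith
  -- a least offender
  obtain ⟨A, ⟨hA, hA1, hoff⟩, hmin⟩ := (Set.toFinite {A : Subgroup G | (∀ a ∈ A, a * a = 1) ∧ A ≠ ⊥ ∧
    Nat.card V ≤ Nat.card A * Nat.card (fixV A : AddSubgroup V)}).exists_minimal ⟨A₀, hA₀, hA₀1, hcon⟩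
  set U : AddSubgroup V := fixV A with hU
  have hquad : ∀ a ∈ A, ∀ v : V, a • v - v ∈ U := quadratic_of_minimal hV hA hoff fun B hB hBA hne => by
    by_contra hBoff
    exact hne (le_antisymm hBA (hmin ⟨fun b hb => hA b (hBA hb), hB, not_lt.1 hBoff⟩ hBA))
  have hord : ∀ a ∈ A, a ≠ 1 → orderOf a = 2 := fun a ha h1 =>
    orderOf_eq_prime (by rw [pow_two]; exact hA a ha) h1
  obtain ⟨M₀, hM₀⟩ := hse
  obtain ⟨h, hh⟩ := se_exists_conj hM₀ (card_eq_two_pow hA)
  set M := M₀.map (MulAut.conj h).toMonoidHom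
  have hM : Cfsg.IsStronglyEmbedded M := se_conj hM₀ h
  obtain ⟨g, hg⟩ : ∃ g, g ∉ M := by
    by_contra h'; push Not at h'; exact hM.1 (eq_top_iff.2 fun x _ => h' x)
  -- the conjugate pair
  set A' := A.map (MulAut.conj g).toMonoidHom with hA'def
  have hmemA' : ∀ {a : G}, a ∈ A → g * a * g⁻¹ ∈ A' := fun ha => ⟨_, ha, rfl⟩
  have hA' : ∀ b ∈ A', b * b = 1 := by
    rintro _ ⟨a, ha, rfl⟩
    rw [← map_mul, hA a ha, map_one]
  set U' : AddSubgroup V := fixV A' with hU'
  have hUU' : ∀ {v : V}, v ∈ U' ↔ g⁻¹ • v ∈ U := by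
    intro v
    constructor
    · intro hv a ha
      have := hv _ (hmemA' ha)
      rw [mul_smul, mul_smul] at this
      exact (eq_inv_smul_iff.2 this)
    · rintro hv _ ⟨a, ha, rfl⟩
      show (g * a * g⁻¹) • v = v
      rw [mul_smul, mul_smul, hv a ha, smul_inv_smul]
  have hA'M : ∀ b ∈ A', b ≠ 1 → b ∉ M := by
    rintro _ ⟨a, ha, rfl⟩ hb hbM
    have ha1 : a ≠ 1 := fun e => hb (by rw [e, map_one])
    refine hg (se_not_mem hM (t := g * a * g⁻¹) ?_ hbM (by simpa [mul_assoc] using hh ha))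
    rw [← hord a ha ha1]
    exact orderOf_injective (MulAut.conj g).toMonoidHom (MulAut.conj g).injective a
  have hquad' : ∀ b ∈ A', ∀ v : V, b • v - v ∈ U' := by
    rintro _ ⟨a, ha, rfl⟩ v
    rw [hUU']
    show g⁻¹ • ((g * a * g⁻¹) • v - v) ∈ U
    rw [smul_sub, ← mul_smul, ← mul_assoc, ← mul_assoc, inv_mul_cancel, one_mul, mul_smul]
    exact hquad a ha _
  have hcardU : Nat.card U' = Nat.card U := Nat.card_congr
    { toFun := fun v => ⟨g⁻¹ • v.1, hUU'.1 v.2⟩
      invFun := fun v => ⟨g • v.1, hUU'.2 (by rw [inv_smul_smul]; exact v.2)⟩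
      left_inv := fun v => Subtype.ext (smul_inv_smul _ _)
      right_inv := fun v => Subtype.ext (inv_smul_smul _ _) }
  obtain ⟨a₁, ha₁, ha₁1⟩ : ∃ a ∈ A, a ≠ 1 := by
    by_contra h'; push Not at h'; exact hA1 (eq_bot_iff.2 fun x hx => Subgroup.mem_bot.2 (h' x hx))
  set b₁ := g * a₁ * g⁻¹ with hb₁def
  have hb₁ : b₁ ∈ A' := hmemA' ha₁
  have hb₁1 : b₁ ≠ 1 := fun e => ha₁1 (conj_eq_one_iff.1 e)
  -- a vector fixed by a nontrivial element of `A` and one of `A'` with either offender is zero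
  have key : ∀ (w : V) (a b : G), a ∈ A → a ≠ 1 → b ∈ A' → b ≠ 1 → a • w = w → b • w = w →
      (∀ c ∈ A', c • w = w) ∨ (∀ c ∈ A, c • w = w) → w = 0 := by
    intro w a b ha ha1 hb hb1 haw hbw hor
    by_contra hw
    let K : Subgroup G := MulAction.stabilizer G w
    have hK : K ≠ ⊤ := fun e => hw (hfix0 w fun x => by
      have hx : x ∈ K := e ▸ Subgroup.mem_top x
      exact hx)
    have hKM : ¬ K ≤ M := fun hle => hA'M b hb hb1 (hle hbw)
    have hseK := se_restrict hM K hKM (hord a ha ha1) haw (hh ha)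
    have hlt : Nat.card K + Nat.card V < n := by
      have := lt_of_le_of_ne (Subgroup.card_le_card_group K) (fun e => hK (Subgroup.eq_top_of_card_eq K e))
      omega
    have hfK : ∀ x : K, (∀ v : V, x • v = v) → x = 1 := fun x hx => Subtype.ext (hfaith x.1 hx)
    obtain ⟨B, hBK, hB2, hB1, hBoff⟩ : ∃ B : Subgroup G, B ≤ K ∧ (∀ x ∈ B, x * x = 1) ∧ B ≠ ⊥ ∧
        Nat.card V ≤ Nat.card B * Nat.card (fixV B : AddSubgroup V) := by
      rcases hor with h' | h'
      · refine ⟨A', h', hA', fun e => hb1 (Subgroup.mem_bot.1 (e ▸ hb)), ?_⟩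
        rw [← hU', hcardU, hA'def, Subgroup.card_map_of_injective (MulAut.conj g).injective]
        exact hoff
      · exact ⟨A, h', hA, hA1, hoff⟩
    have := ih _ hlt K V rfl hV hfK (h3.subgroup K) ⟨_, hseK⟩ (B.subgroupOf K)
      (fun x hx => Subtype.ext (hB2 _ hx))
      (fun e => hB1 (by rw [Subgroup.subgroupOf_eq_bot, disjoint_iff, inf_eq_left.2 hBK] at e; exact e))
    rw [Nat.card_congr (Subgroup.subgroupOfEquivOfLe hBK).toEquiv] at this
    have e : (fixV (B.subgroupOf K) : AddSubgroup V) = fixV B := by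
      ext v
      exact ⟨fun hv x hx => hv ⟨x, hBK hx⟩ hx, fun hv x hx => hv x.1 hx⟩
    rw [e] at this
    omega
  have hdisj : ∀ v, v ∈ U → v ∈ U' → v = 0 := fun v h1 h2 =>
    key v a₁ b₁ ha₁ ha₁1 hb₁ hb₁1 (h1 a₁ ha₁) (h2 b₁ hb₁) (Or.inr h1)
  have hsize : Nat.card U * Nat.card U ≤ Nat.card V := by
    conv_lhs => arg 2; rw [← hcardU]
    rw [← Nat.card_prod]
    refine Nat.card_le_card_of_injective (fun x => x.1.1 + x.2.1) fun x y e => ?_
    have h1 : x.1.1 - y.1.1 = y.2.1 - x.2.1 := by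
      rw [sub_eq_sub_iff_add_eq_add]; exact e.trans (add_comm _ _)
    have h2 := hdisj _ (U.sub_mem x.1.2 y.1.2) (h1 ▸ U'.sub_mem y.2.2 x.2.2)
    exact Prod.ext (Subtype.ext (sub_eq_zero.1 h2)) (Subtype.ext (sub_eq_zero.1 (h1 ▸ h2)).symm)
  -- the fixed space is not zero
  obtain ⟨u, hu, hu0⟩ : ∃ u ∈ U, u ≠ 0 := by
    by_cases hall : ∀ v : V, a₁ • v - v = 0
    · exact absurd (hfaith a₁ fun v => sub_eq_zero.1 (hall v)) ha₁1
    · push Not at hall
      obtain ⟨v, hv⟩ := hall
      exact ⟨_, hquad a₁ ha₁ v, hv⟩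
  set w := b₁ • u - u with hwdef
  have hwU' : w ∈ U' := hquad' b₁ hb₁ u
  have hw0 : w ≠ 0 := fun e =>
    hu0 (key u a₁ b₁ ha₁ ha₁1 hb₁ hb₁1 (hu a₁ ha₁) (sub_eq_zero.1 e) (Or.inr hu))
  -- `a ↦ [w,a]` maps `A` onto `U`
  let φ : A → U := fun a => ⟨(a : G) • w - w, hquad a a.2 w⟩
  have hφ : Function.Injective φ := by
    intro a c e
    have e' : (a : G) • w = (c : G) • w := sub_left_injective (congrArg Subtype.val e)
    have e'' : ((c : G)⁻¹ * a) • w = w := by rw [mul_smul, e', inv_smul_smul]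
    by_contra hac
    refine hw0 (key w _ b₁ (A.mul_mem (A.inv_mem c.2) a.2) ?_ hb₁ hb₁1 e'' (hwU' b₁ hb₁) (Or.inl hwU'))
    intro h1
    exact hac (Subtype.ext (inv_mul_eq_one.1 h1).symm)
  have hge : Nat.card U ≤ Nat.card A := by
    have hp := Nat.card_pos (α := U)
    exact Nat.le_of_mul_le_mul_right (hsize.trans hoff) hp
  obtain ⟨a, ha⟩ := ((Nat.bijective_iff_injective_and_card φ).2
    ⟨hφ, le_antisymm (Nat.card_le_card_of_injective φ hφ) hge⟩).2 ⟨u, hu⟩
  have haw : (a : G) • w = w + u := by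
    have := congrArg Subtype.val ha
    rw [add_comm]
    exact sub_eq_iff_eq_add.1 this
  refine three_of_chain hV h3 (hA a a.2) (hA' b₁ hb₁) hu0 (hu a a.2) haw (hwU' b₁ hb₁) ?_
    (isOfFinOrder_of_finite _)
  rw [hwdef, add_sub_cancel]

/-- No offenders in a group with a strongly embedded subgroup and no involution inverting an
element of order three, faithful on an elementary abelian 2-group. -/
theorem noFF_stronglyEmbedded {G : Type u} [Group G] [Finite G] {V : Type v} [AddCommGroup V] [Finite V]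
    [DistribMulAction G V] (hV : ∀ v : V, v + v = 0) (hfaith : ∀ g : G, (∀ v : V, g • v = v) → g = 1)
    (h3 : NoThree G) {M : Subgroup G} (hM : Cfsg.IsStronglyEmbedded M) (A : Subgroup G)
    (hA : ∀ a ∈ A, a * a = 1) (hA1 : A ≠ ⊥) :
    Nat.card A * Nat.card (fixV A : AddSubgroup V) < Nat.card V :=
  noFF_aux _ G V rfl hV hfaith h3 ⟨M, hM⟩ A hA hA1

end H82.SFree
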