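import Mathlib
import Cfsg.Agent.H82.SFree.NoFFSE

/-!
A quadratic offender contained in a unique maximal subgroup, whose normal subgroups have odd
order, forces an involution inverting an element of order three.
-/

set_option autoImplicit false
set_option linter.unusedSectionVars false
set_option linter.style.haveILetI false

namespace H82.SFree

universe u v

variable {G : Type u} [Group G] {V : Type v} [AddCommGroup V] [DistribMulAction G V]

/-- Conjugate of a subgroup. -/
abbrev cjS (g : G) (H : Subgroup G) : Subgroup G := H.map (MulAut.conj g).toMonoidHom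

theorem mem_cjS {g x : G} {H : Subgroup G} : x ∈ cjS g H ↔ g⁻¹ * x * g ∈ H := by
  constructor
  · rintro ⟨y, hy, rfl⟩
    simpa [mul_assoc] using hy
  · intro h
    exact ⟨_, h, by simp [mul_assoc]⟩

theorem cjS_mul (g h : G) (H : Subgroup G) : cjS (g * h) H = cjS g (cjS h H) := by
  ext x
  simp [mem_cjS, mul_assoc]

theorem cjS_one (H : Subgroup G) : cjS (1 : G) H = H := by
  ext x
  simp [mem_cjS]

theorem mem_fixV_cjS {g : G} {H : Subgroup G} {v : V} :
    v ∈ fixV (cjS g H) ↔ g⁻¹ • v ∈ fixV (V := V) H := by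
  constructor
  · intro hv a ha
    have h := hv (g * a * g⁻¹) ⟨a, ha, rfl⟩
    rw [mul_smul, mul_smul] at h
    exact eq_inv_smul_iff.2 h
  · rintro hv _ ⟨a, ha, rfl⟩
    show (g * a * g⁻¹) • v = v
    rw [mul_smul, mul_smul, hv a ha, smul_inv_smul]

/-- Elements fixing `U` and moving everything into it. -/
def stabU (U : AddSubgroup V) : Subgroup G where
  carrier := {g | (∀ u ∈ U, g • u = u) ∧ ∀ v : V, g • v - v ∈ U}
  one_mem' := ⟨fun u _ => one_smul G u, fun v => by rw [one_smul, sub_self]; exact U.zero_mem⟩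
  mul_mem' := by
    rintro g h ⟨g1, g2⟩ ⟨h1, h2⟩
    refine ⟨fun u hu => by rw [mul_smul, h1 u hu, g1 u hu], fun v => ?_⟩
    have : (g * h) • v - v = (g • (h • v) - h • v) + (h • v - v) := by rw [mul_smul]; abel
    rw [this]
    exact U.add_mem (g2 _) (h2 v)
  inv_mem' := by
    rintro g ⟨g1, g2⟩
    refine ⟨fun u hu => by rw [inv_smul_eq_iff, g1 u hu], fun v => ?_⟩
    have h := U.neg_mem (g2 (g⁻¹ • v))
    rwa [smul_inv_smul, neg_sub] at h

theorem stabU_sq (hV : ∀ v : V, v + v = 0) (hfaith : ∀ g : G, (∀ v : V, g • v = v) → g = 1)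
    {U : AddSubgroup V} {g : G} (hg : g ∈ stabU U) : g * g = 1 := by
  refine hfaith _ fun v => ?_
  have h : g • (g • v - v) = g • v - v := hg.1 _ (hg.2 v)
  rw [smul_sub, sub_eq_iff_eq_add] at h
  rw [mul_smul, h, sub_add_eq_add_sub, hV, zero_sub, neg_eq_of_add_eq_zero_left (hV v)]

theorem dual_card_le [Finite V] (hV : ∀ v : V, v + v = 0) {ι : Type*} [Finite ι] (W : AddSubgroup V)
    (f : ι → V →+ ZMod 2) (hf : Function.Injective f) (hW : ∀ i, ∀ w ∈ W, f i w = 0) :
    Nat.card ι * Nat.card W ≤ Nat.card V := by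
  obtain ⟨inst⟩ : Nonempty (Module (ZMod 2) (V ⧸ W)) := ⟨AddCommGroup.zmodModule fun q => by
    induction q using QuotientAddGroup.induction_on with
    | H x => rw [← QuotientAddGroup.mk_nsmul, two_nsmul, hV, QuotientAddGroup.mk_zero]⟩
  haveI : Fact (Nat.Prime 2) := ⟨Nat.prime_two⟩
  haveI : Module.Finite (ZMod 2) (V ⧸ W) := by infer_instance
  let f' : ι → Module.Dual (ZMod 2) (V ⧸ W) := fun i =>
    (QuotientAddGroup.lift W (f i) fun w hw => (hW i w hw)).toZModLinearMap 2
  have hf' : Function.Injective f' := fun i j h => hf (AddMonoidHom.ext fun v =>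
    (LinearMap.congr_fun h (QuotientAddGroup.mk v) :))
  haveI : Finite (Module.Dual (ZMod 2) (V ⧸ W)) := Finite.of_injective _ DFunLike.coe_injective
  have h := Nat.card_le_card_of_injective f' hf'
  rw [Module.natCard_eq_pow_finrank (K := ZMod 2) (V := Module.Dual (ZMod 2) (V ⧸ W)),
    Subspace.dual_finrank_eq, ← Module.natCard_eq_pow_finrank (K := ZMod 2) (V := V ⧸ W)] at h
  rw [AddSubgroup.card_eq_card_quotient_mul_card_addSubgroup W]
  exact Nat.mul_le_mul_right _ h

/-- A group of elements moving `V` onto `U` and killing `W` is small. -/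
theorem card_mul_le_of_onto [Finite G] [Finite V] (hV : ∀ v : V, v + v = 0) {U W Z : AddSubgroup V}
    {u : V} (hu : u ∈ U) (huZ : u ∉ Z) (D : Subgroup G) (hD : D ≤ stabU U)
    (hW : ∀ d ∈ D, ∀ w ∈ W, d • w - w ∈ Z) (honto : ∀ d ∈ D, d ≠ 1 → ∃ v : V, d • v - v = u) :
    Nat.card D * Nat.card W ≤ Nat.card V := by
  haveI : Fact (Nat.Prime 2) := ⟨Nat.prime_two⟩
  obtain ⟨inst⟩ : Nonempty (Module (ZMod 2) V) :=
    ⟨AddCommGroup.zmodModule fun v => by rw [two_nsmul]; exact hV v⟩
  obtain ⟨f, hf, hfZ⟩ := Submodule.exists_dual_map_eq_bot_of_notMem (R := ZMod 2)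
    (p := AddSubgroup.toZModSubmodule 2 Z) huZ inferInstance
  have hfZ' : ∀ z ∈ Z, f z = 0 := fun z hz =>
    (Submodule.mem_bot _).1 (hfZ ▸ Submodule.mem_map_of_mem hz)
  let ψ : D → V →+ ZMod 2 := fun d => f.toAddMonoidHom.comp
    (DistribSMul.toAddMonoidHom V (d : G) - AddMonoidHom.id V)
  refine dual_card_le hV W ψ ?_ fun d w hw => hfZ' _ (hW d d.2 w hw)
  intro d e h
  by_contra hne
  have hd : (e : G)⁻¹ * d ∈ D := D.mul_mem (D.inv_mem e.2) d.2
  obtain ⟨v, hv⟩ := honto _ hd fun h1 => hne (Subtype.ext (inv_mul_eq_one.1 h1).symm)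
  refine hf ?_
  have h1 : f ((d : G) • v - v) = f ((e : G) • v - v) := DFunLike.congr_fun h v
  have h2 : u = ((d : G) • v - v) - ((e : G) • v - v) := by
    have h3 : (e : G) • u = u := (hD e.2).1 u hu
    rw [← h3, ← hv, mul_smul, smul_sub, smul_inv_smul]
    abel
  rw [h2, map_sub, h1, sub_self]

theorem core_unique [Finite G] [Finite V] (hV : ∀ v : V, v + v = 0)
    (hfaith : ∀ g : G, (∀ v : V, g • v = v) → g = 1) (h3 : NoThree G)
    (hfix0 : ∀ v : V, (∀ g : G, g • v = v) → v = 0)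
    (hnp : ¬ IsPGroup 2 G) (M A : Subgroup G) (hM : M ≠ ⊤)
    (hover : ∀ L : Subgroup G, A ≤ L → L ≠ ⊤ → L ≤ M)
    (hcore : ∀ N : Subgroup G, N.Normal → N ≤ M → Odd (Nat.card N))
    (hA : ∀ a ∈ A, a * a = 1) (hA1 : A ≠ ⊥) (hquad : ∀ a ∈ A, ∀ v : V, a • v - v ∈ fixV (V := V) A)
    (hoff : Nat.card V ≤ Nat.card A * Nat.card (fixV A : AddSubgroup V)) : False := by
  classical
  haveI : Fact (Nat.Prime 2) := ⟨Nat.prime_two⟩
  set U : AddSubgroup V := fixV A with hU
  set X : Subgroup G := stabU U with hX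
  have hAX : A ≤ X := fun a ha => ⟨fun u hu => hu a ha, hquad a ha⟩
  have hXsq : ∀ x ∈ X, x * x = 1 := fun x hx => stabU_sq hV hfaith hx
  have hX2 : IsPGroup 2 X := card_eq_two_pow hXsq
  have hXfix : ∀ v, v ∈ fixV (V := V) X ↔ v ∈ U := fun v =>
    ⟨fun h a ha => h a (hAX ha), fun h x hx => hx.1 v h⟩
  have hoffX : Nat.card V ≤ Nat.card X * Nat.card U :=
    hoff.trans (Nat.mul_le_mul_right _ (Subgroup.card_le_of_le hAX))
  obtain ⟨a₀, ha₀, ha₀1⟩ : ∃ a ∈ A, a ≠ 1 := by
    by_contra h; push Not at h; exact hA1 (eq_bot_iff.2 fun x hx => Subgroup.mem_bot.2 (h x hx))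
  have hXtop : X ≠ ⊤ := fun e => hnp (fun g => by
    obtain ⟨k, hk⟩ := hX2 ⟨g, e ▸ Subgroup.mem_top g⟩
    exact ⟨k, congrArg Subtype.val hk⟩)
  have hXM : X ≤ M := hover X hAX hXtop
  have hordX : ∀ {a : G}, a ∈ X → a ≠ 1 → orderOf a = 2 := fun ha h1 =>
    orderOf_eq_prime (by rw [pow_two]; exact hXsq _ ha) h1
  have hnodd : ∀ (N : Subgroup G), N.Normal → N ≤ M → ∀ a ∈ N, a ∈ X → a = 1 := by
    intro N hN hNM a haN haX
    by_contra h1
    have hd : orderOf (⟨a, haN⟩ : N) ∣ Nat.card N := orderOf_dvd_natCard _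
    rw [← Subgroup.orderOf_coe, hordX haX h1] at hd
    exact (Nat.not_even_iff_odd.2 (hcore N hN hNM)) (even_iff_two_dvd.2 hd)
  -- conjugates of `M`
  have hMne : ∀ {g : G}, g ∉ M → cjS g M ≠ M := by
    intro g hg e
    have hgN : g ∈ Subgroup.normalizer (M : Set G) := by
      rw [Subgroup.mem_normalizer_iff]
      intro x
      constructor
      · intro hx
        exact e ▸ (⟨x, hx, rfl⟩ : g * x * g⁻¹ ∈ cjS g M)
      · intro hx
        rw [← e] at hx
        simpa [mem_cjS, mul_assoc] using hx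
    by_cases htop : Subgroup.normalizer (M : Set G) = ⊤
    · exact ha₀1 (hnodd M (Subgroup.normalizer_eq_top_iff.1 htop) le_rfl a₀ (hXM (hAX ha₀)) (hAX ha₀))
    · exact hg (hover _ (hAX.trans (hXM.trans Subgroup.le_normalizer)) htop hgN)
  have hoverg : ∀ (g : G) (L : Subgroup G), cjS g X ≤ L → L ≠ ⊤ → L ≤ cjS g M := by
    intro g L hL hLtop x hx
    rw [mem_cjS]
    refine hover (cjS g⁻¹ L) (fun a ha => ?_) (fun e => hLtop ?_) ?_
    · rw [mem_cjS, inv_inv]; exact hL ⟨a, hAX ha, rfl⟩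
    · rw [← cjS_one L, ← mul_inv_cancel g, cjS_mul, e, eq_top_iff]
      intro y _
      rw [mem_cjS]; exact Subgroup.mem_top _
    · rw [mem_cjS]; simpa [mul_assoc] using hx
  have hcjcard : ∀ (g : G) (H : Subgroup G), Nat.card (cjS g H) = Nat.card H := fun g H =>
    Subgroup.card_map_of_injective (MulAut.conj g).injective
  have hcardU : ∀ g : G, Nat.card (fixV (cjS g X) : AddSubgroup V) = Nat.card U := fun g => Nat.card_congr
    { toFun := fun v => ⟨g⁻¹ • v.1, (hXfix _).1 (mem_fixV_cjS.1 v.2)⟩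
      invFun := fun v => ⟨g • v.1, mem_fixV_cjS.2 ((hXfix _).2 (by rw [inv_smul_smul]; exact v.2))⟩
      left_inv := fun v => Subtype.ext (smul_inv_smul _ _)
      right_inv := fun v => Subtype.ext (inv_smul_smul _ _) }
  have hquadg : ∀ (g : G) {y : G}, y ∈ cjS g X → ∀ v : V, y • v - v ∈ fixV (V := V) (cjS g X) := by
    intro g y hy v
    rw [mem_fixV_cjS, hXfix]
    have h := (mem_cjS.1 hy).2 (g⁻¹ • v)
    rwa [mul_smul, mul_smul, smul_inv_smul, ← smul_sub] at h
  -- a vector fixed by a conjugate and by an element outside its maximal subgroup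
  have hfree : ∀ (g : G) (x : G), x ∉ cjS g M → ∀ w ∈ fixV (V := V) (cjS g X), x • w = w → w = 0 := by
    intro g x hx w hw hxw
    by_contra hw0
    refine hx (hoverg g (MulAction.stabilizer G w) hw (fun e => hw0 (hfix0 w fun y => ?_)) hxw)
    have hy : y ∈ MulAction.stabilizer G w := e ▸ Subgroup.mem_top y
    exact hy
  -- every involution of `X` moves `V` onto `U`
  have honto : ∀ a ∈ X, a ≠ 1 → ∀ u ∈ U, ∃ v : V, a • v - v = u := by
    intro a ha ha1 u hu
    obtain ⟨g, hg⟩ : ∃ g : G, a ∉ cjS g M := by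
      by_contra h
      push Not at h
      refine ha1 (hnodd M.normalCore inferInstance M.normalCore_le a ?_ ha)
      intro b
      have := mem_cjS.1 (h b⁻¹)
      simpa using this
    let φ : (fixV (cjS g X) : AddSubgroup V) → U := fun w => ⟨a • w.1 - w.1, ha.2 _⟩
    have hφ : Function.Injective φ := by
      intro w w' e
      have e' : a • w.1 - w.1 = a • w'.1 - w'.1 := congrArg Subtype.val e
      refine Subtype.ext (sub_eq_zero.1 (hfree g a hg _ ((fixV (cjS g X)).sub_mem w.2 w'.2) ?_))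
      rw [smul_sub]
      exact sub_eq_sub_iff_sub_eq_sub.1 e'
    obtain ⟨w, hw⟩ := ((Nat.bijective_iff_injective_and_card φ).2 ⟨hφ, hcardU g⟩).2 ⟨u, hu⟩
    exact ⟨w.1, congrArg Subtype.val hw⟩
  -- commuting conjugates coincide
  have hfixeq : ∀ g : G, U ≤ fixV (V := V) (cjS g X) → cjS g X = X := by
    intro g hle
    have e : U = fixV (V := V) (cjS g X) :=
      AddSubgroup.eq_of_le_of_card_ge hle (hcardU g).le
    refine Subgroup.eq_of_le_of_card_ge (fun y hy => ?_) (hcjcard g X).ge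
    exact ⟨fun u hu => (e ▸ hu : u ∈ fixV (V := V) (cjS g X)) y hy, fun v => e ▸ hquadg g hy v⟩
  have hTI : ∀ g : G, cjS g X ≠ X → X ⊓ cjS g X = ⊥ := by
    intro g hne
    rw [eq_bot_iff]
    rintro c ⟨hc, hc'⟩
    rw [Subgroup.mem_bot]
    by_contra hc1
    refine hne (hfixeq g fun u hu => ?_)
    obtain ⟨v, hv⟩ := honto c hc hc1 u hu
    rw [← hv]
    exact hquadg g hc' v
  have hcomm : ∀ g : G, (∀ x ∈ X, ∀ y ∈ cjS g X, x * y = y * x) → cjS g X = X := by
    intro g hc
    by_contra hne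
    set U' : AddSubgroup V := fixV (cjS g X) with hU'
    obtain ⟨u, hu, huU'⟩ : ∃ u ∈ U, u ∉ U' := by
      by_contra h; push Not at h; exact hne (hfixeq g h)
    have key := card_mul_le_of_onto hV (W := U ⊔ U') (Z := U ⊓ U') hu (fun h => huU' h.2) X le_rfl
      (fun x hx w hw => ?_) (fun x hx hx1 => honto x hx hx1 u hu)
    · have h1 := Nat.le_of_mul_le_mul_left (key.trans hoffX) Nat.card_pos
      have h2 : U = U ⊔ U' := AddSubgroup.eq_of_le_of_card_ge le_sup_left h1
      have h3 : U' = U := AddSubgroup.eq_of_le_of_card_ge (h2 ▸ le_sup_right) (hcardU g).ge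
      exact huU' (h3.symm ▸ hu)
    · obtain ⟨p, hp, q, hq, rfl⟩ := AddSubgroup.mem_sup.1 hw
      have h1 : x • (p + q) - (p + q) = x • q - q := by rw [smul_add, hx.1 p hp]; abel
      rw [h1]
      refine ⟨hx.2 q, fun y hy => ?_⟩
      rw [smul_sub, ← mul_smul, ← hc x hx y hy, mul_smul, hq y hy]
  -- two conjugates in a 2-subgroup coincide
  have hnorm : ∀ R : Subgroup G, IsPGroup 2 R → X ≤ R → ∀ r ∈ R, cjS r X = X := by
    intro R hR hXR r hr
    by_contra hne
    let NX : Subgroup G := R ⊓ Subgroup.normalizer (X : Set G)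
    have hNR : NX ≤ R := inf_le_left
    have hrN : r ∉ NX := fun h => hne (by
      ext x
      rw [mem_cjS]
      exact ⟨fun hx => by
        have := (Subgroup.mem_normalizer_iff.1 h.2 _).1 hx
        simpa [mul_assoc] using this, fun hx => by
        have := (Subgroup.mem_normalizer_iff.1 (inv_mem h.2) x).1 hx
        simpa [mul_assoc] using this⟩)
    haveI : Group.IsNilpotent R := hR.isNilpotent
    have hlt : NX.subgroupOf R < ⊤ := by
      rw [lt_top_iff_ne_top, Ne, Subgroup.subgroupOf_eq_top]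
      exact fun h => hrN (h hr)
    obtain ⟨m, hm, hmN⟩ := SetLike.exists_of_lt (Group.normalizerCondition_of_isNilpotent _ hlt)
    have hmeq : ∀ x ∈ NX, (m : G) * x * (m : G)⁻¹ ∈ NX ∧ (m : G)⁻¹ * x * m ∈ NX := fun x hx => by
      have h1 := (Subgroup.mem_normalizer_iff.1 hm ⟨x, hNR hx⟩).1 hx
      have h2 := (Subgroup.mem_normalizer_iff.1 (inv_mem hm) ⟨x, hNR hx⟩).1 hx
      simp only [Subgroup.mem_subgroupOf, Subgroup.coe_mul, Subgroup.coe_inv, inv_inv] at h1 h2
      exact ⟨h1, h2⟩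
    have hXN : X ≤ NX := le_inf hXR Subgroup.le_normalizer
    have hne' : cjS (m : G) X ≠ X := fun e => hmN (show (m : G) ∈ NX from Subgroup.mem_inf.2 ⟨m.2, by
      rw [Subgroup.mem_normalizer_iff]
      intro x
      constructor
      · intro hx
        exact e ▸ (⟨x, hx, rfl⟩ : (m : G) * x * (m : G)⁻¹ ∈ cjS (m : G) X)
      · intro hx
        rw [← e] at hx
        simpa [mem_cjS, mul_assoc] using hx⟩)
    refine hne' (hcomm _ fun x hx y hy => ?_)
    have hY : cjS (m : G) X ≤ NX := by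
      rintro _ ⟨z, hz, rfl⟩; exact (hmeq z (hXN hz)).1
    have h1 : y * x * y⁻¹ ∈ X := (Subgroup.mem_normalizer_iff.1 (hY hy).2 x).1 hx
    have h2 : x * y * x⁻¹ ∈ cjS (m : G) X := by
      have hx' : (m : G)⁻¹ * x * m ∈ Subgroup.normalizer (X : Set G) := (hmeq x (hXN hx)).2.2
      rw [mem_cjS] at hy ⊢
      have := (Subgroup.mem_normalizer_iff.1 hx' _).1 hy
      simpa [mul_assoc] using this
    have h3' : x * y * x⁻¹ * y⁻¹ ∈ X ⊓ cjS (m : G) X := by
      refine Subgroup.mem_inf.2 ⟨?_, mul_mem h2 (inv_mem hy)⟩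
      rw [show x * y * x⁻¹ * y⁻¹ = x * (y * x * y⁻¹)⁻¹ by group]
      exact mul_mem hx (inv_mem h1)
    rw [hTI _ hne', Subgroup.mem_bot, mul_inv_eq_one, mul_inv_eq_iff_eq_mul] at h3'
    exact h3'
  have huniq : ∀ R : Subgroup G, IsPGroup 2 R → ∀ g h : G, cjS g X ≤ R → cjS h X ≤ R → cjS g X = cjS h X := by
    intro R hR g h hgR hhR
    have hR' : IsPGroup 2 (cjS g⁻¹ R) := hR.map _
    have hXR : X ≤ cjS g⁻¹ R := fun x hx => by
      rw [mem_cjS, inv_inv]; exact hgR ⟨x, hx, rfl⟩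
    have hYR : cjS (g⁻¹ * h) X ≤ cjS g⁻¹ R := by
      rw [cjS_mul]; exact Subgroup.map_mono hhR
    have e : cjS (g⁻¹ * h) X = X := by
      refine hcomm _ fun x hx y hy => ?_
      by_cases e : cjS (g⁻¹ * h) X = X
      · exact comm_of_sq hXsq hx (e ▸ hy)
      · have h1 : x * y * x⁻¹ * y⁻¹ ∈ X ⊓ cjS (g⁻¹ * h) X := by
          refine Subgroup.mem_inf.2 ⟨?_, ?_⟩
          · rw [show x * y * x⁻¹ * y⁻¹ = x * (y * x * y⁻¹)⁻¹ by group]
            have := hnorm _ hR' hXR y (hYR hy)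
            exact mul_mem hx (inv_mem (this ▸ (⟨x, hx, rfl⟩ : y * x * y⁻¹ ∈ cjS y X)))
          · set k := g⁻¹ * h with hk
            have hR'' : IsPGroup 2 (cjS k⁻¹ (cjS g⁻¹ R)) := hR'.map _
            have hXR'' : X ≤ cjS k⁻¹ (cjS g⁻¹ R) := fun z hz => by
              rw [mem_cjS, inv_inv]; exact hYR ⟨z, hz, rfl⟩
            have := hnorm _ hR'' hXR'' (k⁻¹ * x * k) (by
              rw [mem_cjS, inv_inv]; simpa [mul_assoc] using hXR hx)
            refine mul_mem ?_ (inv_mem hy)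
            rw [mem_cjS] at hy ⊢
            have h4 : (k⁻¹ * x * k) * (k⁻¹ * y * k) * (k⁻¹ * x * k)⁻¹ ∈ X :=
              this ▸ (⟨_, hy, rfl⟩ : _ ∈ cjS (k⁻¹ * x * k) X)
            convert h4 using 1
            group
        rw [hTI _ e, Subgroup.mem_bot, mul_inv_eq_one, mul_inv_eq_iff_eq_mul] at h1
        exact h1
    calc cjS g X = cjS g (cjS (g⁻¹ * h) X) := by rw [e]
      _ = cjS h X := by rw [← cjS_mul, mul_inv_cancel_left]
  -- choose a second conjugate
  obtain ⟨g₀, hg₀⟩ : ∃ g, g ∉ M := by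
    by_contra h; push Not at h; exact hM (eq_top_iff.2 fun x _ => h x)
  set M₁ := cjS g₀ M with hM₁
  set D : Subgroup G := X ⊓ M₁ with hD
  obtain ⟨P, hP⟩ := (hX2.to_le (inf_le_left : D ≤ X)).comap_subtype (K := M₁) |>.exists_le_sylow
  have hX₁ : cjS g₀ X ≤ M₁ := Subgroup.map_mono hXM
  obtain ⟨Q, hQ⟩ := ((hX2.map (MulAut.conj g₀).toMonoidHom).comap_subtype (K := M₁)).exists_le_sylow
  obtain ⟨m, hm⟩ := MulAction.exists_smul_eq M₁ Q P
  set g := (m : G) * g₀ with hgdef
  have hMg : cjS g M = M₁ := by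
    rw [hgdef, cjS_mul, ← hM₁]
    ext x
    rw [mem_cjS]
    exact ⟨fun hx => by
      have := M₁.mul_mem (M₁.mul_mem m.2 hx) (M₁.inv_mem m.2)
      simpa [mul_assoc] using this,
      fun hx => M₁.mul_mem (M₁.mul_mem (M₁.inv_mem m.2) hx) m.2⟩
  have hg : g ∉ M := by
    intro hgM
    refine hMne hg₀ ?_
    rw [← hM₁, ← hMg]
    ext x
    rw [mem_cjS]
    exact ⟨fun hx => by
      have := M.mul_mem (M.mul_mem hgM hx) (M.inv_mem hgM)
      simpa [mul_assoc] using this,
      fun hx => M.mul_mem (M.mul_mem (M.inv_mem hgM) hx) hgM⟩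
  have hYP : cjS g X ≤ (P : Subgroup M₁).map M₁.subtype := by
    rw [hgdef, cjS_mul]
    rintro _ ⟨y, hy, rfl⟩
    refine ⟨m * ⟨y, hX₁ hy⟩ * m⁻¹, ?_, rfl⟩
    rw [← hm]
    exact ⟨⟨y, hX₁ hy⟩, hQ hy, rfl⟩
  have hP2 : IsPGroup 2 ((P : Subgroup M₁).map M₁.subtype) := P.isPGroup'.map _
  have hDP : D ≤ (P : Subgroup M₁).map M₁.subtype := fun d hd => ⟨⟨d, hd.2⟩, hP hd, rfl⟩
  set U' : AddSubgroup V := fixV (cjS g X) with hU'
  have hXne : cjS g X ≠ X := by
    intro e
    refine hMne hg ?_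
    have h1 : cjS g M ≤ M := by
      refine hover _ ?_ ?_
      · exact hAX.trans (e ▸ Subgroup.map_mono hXM)
      · intro et
        refine hM (Subgroup.eq_top_of_card_eq M ?_)
        rw [← hcjcard g M, et, Subgroup.card_top]
    exact Subgroup.eq_of_le_of_card_ge h1 (hcjcard g M).ge
  have hYnM : ¬ cjS g X ≤ M := by
    intro hle
    refine hMne hg (Subgroup.eq_of_le_of_card_ge (hoverg g M hle hM) (hcjcard g M).le).symm
  have hdisj : ∀ v, v ∈ U → v ∈ U' → v = 0 := by
    intro v h1 h2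
    by_contra hv
    refine hYnM (le_trans ?_ (hover (MulAction.stabilizer G v) h1 (fun e => hv (hfix0 v fun y => ?_))))
    · exact h2
    · have hy : y ∈ MulAction.stabilizer G v := e ▸ Subgroup.mem_top y
      exact hy
  have hsup : Nat.card U * Nat.card U ≤ Nat.card (U ⊔ U' : AddSubgroup V) := by
    conv_lhs => arg 2; rw [← hcardU g]
    rw [← Nat.card_prod]
    refine Nat.card_le_card_of_injective (fun x => (⟨x.1.1 + x.2.1,
      add_mem (AddSubgroup.mem_sup_left x.1.2) (AddSubgroup.mem_sup_right x.2.2)⟩ :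
        (U ⊔ U' : AddSubgroup V))) fun x y e => ?_
    have h1 : x.1.1 - y.1.1 = y.2.1 - x.2.1 := by
      rw [sub_eq_sub_iff_add_eq_add]; exact (congrArg Subtype.val e :).trans (add_comm _ _)
    have h2 := hdisj _ (U.sub_mem x.1.2 y.1.2) (h1 ▸ U'.sub_mem y.2.2 x.2.2)
    exact Prod.ext (Subtype.ext (sub_eq_zero.1 h2)) (Subtype.ext (sub_eq_zero.1 (h1 ▸ h2)).symm)
  -- elements of `D` centralize `U'`
  have hDfix : ∀ d ∈ D, ∀ w ∈ U', d • w = w := by
    intro d hd w hw
    refine sub_eq_zero.1 (hdisj _ (hd.1.2 w) (U'.sub_mem ?_ hw))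
    have hdg : cjS (d * g) X = cjS g X := huniq _ hP2 _ _ (by
      rw [cjS_mul]
      rintro _ ⟨y, hy, rfl⟩
      exact mul_mem (mul_mem (hDP hd) (hYP hy)) (inv_mem (hDP hd))) hYP
    rw [hU', ← hdg, mem_fixV_cjS, mul_inv_rev, mul_smul, inv_smul_smul]
    exact mem_fixV_cjS.1 hw
  -- the fixed space is not zero
  obtain ⟨u, hu, hu0⟩ : ∃ u ∈ U, u ≠ 0 := by
    by_cases hall : ∀ v : V, a₀ • v - v = 0
    · exact absurd (hfaith a₀ fun v => sub_eq_zero.1 (hall v)) ha₀1
    · push Not at hall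
      obtain ⟨v, hv⟩ := hall
      exact ⟨_, hquad a₀ ha₀ v, hv⟩
  obtain ⟨b, hb, hbM⟩ := SetLike.not_le_iff_exists.1 hYnM
  set w := b • u - u with hwdef
  have hwU' : w ∈ U' := hquadg g hb u
  have hw0 : w ≠ 0 := fun e =>
    hu0 (hfree 1 b (by rwa [cjS_one]) u (by rw [cjS_one]; exact (hXfix u).2 hu) (sub_eq_zero.1 e))
  -- `X` moves `w` onto `U`
  let φ : X →* Multiplicative U :=
    { toFun := fun x => Multiplicative.ofAdd ⟨(x : G) • w - w, x.2.2 w⟩
      map_one' := by
        refine congrArg Multiplicative.ofAdd (Subtype.ext ?_)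
        show (1 : G) • w - w = 0
        rw [one_smul, sub_self]
      map_mul' := fun x y => by
        rw [← ofAdd_add]
        refine congrArg Multiplicative.ofAdd (Subtype.ext ?_)
        show ((x : G) * y) • w - w = ((x : G) • w - w) + ((y : G) • w - w)
        have h := x.2.1 _ (y.2.2 w)
        rw [smul_sub, ← mul_smul] at h
        rw [sub_eq_iff_eq_add] at h
        rw [h]; abel }
  have hker : φ.ker ≤ D.subgroupOf X := by
    intro x hx
    refine ⟨x.2, ?_⟩
    by_contra hxM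
    refine hw0 (hfree g x (by rwa [hMg]) w hwU' (sub_eq_zero.1 ?_))
    exact congrArg (fun z : Multiplicative U => ((Multiplicative.toAdd z : U) : V)) (MonoidHom.mem_ker.1 hx)
  have hDsmall : Nat.card D * Nat.card (U ⊔ U' : AddSubgroup V) ≤ Nat.card V := by
    refine card_mul_le_of_onto hV (Z := (⊥ : AddSubgroup V)) hu
      (by rw [AddSubgroup.mem_bot]; exact hu0) D inf_le_left ?_ (fun d hd hd1 => honto d hd.1 hd1 u hu)
    intro d hd z hz
    obtain ⟨p, hp, q, hq, rfl⟩ := AddSubgroup.mem_sup.1 hz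
    rw [smul_add, hd.1.1 p hp, hDfix d hd q hq, sub_self]
    exact AddSubgroup.zero_mem _
  have hDU : Nat.card D * Nat.card U ≤ Nat.card X := by
    refine Nat.le_of_mul_le_mul_right ?_ (Nat.card_pos (α := U))
    rw [mul_assoc]
    exact ((Nat.mul_le_mul_left _ hsup).trans hDsmall).trans hoffX
  have hrange : φ.range = ⊤ := by
    refine Subgroup.eq_top_of_le_card _ ?_
    have hU2 : Nat.card (Multiplicative U) = Nat.card U := Nat.card_congr Multiplicative.toAdd
    rw [hU2]
    have h1 : Nat.card X = Nat.card φ.range * Nat.card φ.ker := by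
      rw [Subgroup.card_eq_card_quotient_mul_card_subgroup φ.ker,
        Nat.card_congr (QuotientGroup.quotientKerEquivRange φ).toEquiv]
    have h2 : Nat.card φ.ker ≤ Nat.card D :=
      (Subgroup.card_le_of_le hker).trans
        (Nat.card_congr (Subgroup.subgroupOfEquivOfLe inf_le_left).toEquiv).le
    rw [h1] at hDU
    have h4 : Nat.card D * Nat.card U ≤ Nat.card D * Nat.card φ.range :=
      hDU.trans (by rw [mul_comm (Nat.card D)]; exact Nat.mul_le_mul_left _ h2)
    exact Nat.le_of_mul_le_mul_left h4 Nat.card_pos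
  obtain ⟨x, hx⟩ := MonoidHom.range_eq_top.1 hrange (Multiplicative.ofAdd ⟨u, hu⟩)
  have haw : (x : G) • w = w + u := by
    have := congrArg (fun z : Multiplicative U => ((Multiplicative.toAdd z : U) : V)) hx
    rw [add_comm]
    exact sub_eq_iff_eq_add.1 this
  refine three_of_chain hV h3 (hXsq x x.2) ?_ hu0 (x.2.1 u hu) haw (hwU' b hb) ?_ (isOfFinOrder_of_finite _)
  · have h := hXsq _ (mem_cjS.1 hb)
    calc b * b = g * ((g⁻¹ * b * g) * (g⁻¹ * b * g)) * g⁻¹ := by group
      _ = 1 := by rw [h, mul_one, mul_inv_cancel]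
  · rw [hwdef, add_sub_cancel]

theorem unique_aux : ∀ n : ℕ, ∀ (G : Type u) [Group G] [Finite G] (V : Type v) [AddCommGroup V] [Finite V]
    [DistribMulAction G V], Nat.card V = n → (∀ v : V, v + v = 0) →
    (∀ g : G, (∀ v : V, g • v = v) → g = 1) → NoThree G → ¬ IsPGroup 2 G →
    ∀ (M A : Subgroup G), M ≠ ⊤ → (∀ L : Subgroup G, A ≤ L → L ≠ ⊤ → L ≤ M) →
    (∀ N : Subgroup G, N.Normal → N ≤ M → Odd (Nat.card N)) →
    (∀ a ∈ A, a * a = 1) → A ≠ ⊥ → (∀ a ∈ A, ∀ v : V, a • v - v ∈ fixV (V := V) A) →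
    Nat.card V ≤ Nat.card A * Nat.card (fixV A : AddSubgroup V) → False := by
  intro n
  induction n using Nat.strong_induction_on with
  | _ n ih =>
  intro G _ _ V _ _ _ hn hV hfaith h3 hnp M A hM hover hcore hA hA1 hquad hoff
  classical
  by_cases hfix0 : ∀ v : V, (∀ g : G, g • v = v) → v = 0
  · exact core_unique hV hfaith h3 hfix0 hnp M A hM hover hcore hA hA1 hquad hoff
  push Not at hfix0
  obtain ⟨w, hw, hw0⟩ := hfix0
  set Z : AddSubgroup V := fixV (⊤ : Subgroup G) with hZ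
  have hwZ : w ∈ Z := fun g _ => hw g
  have hZfix : ∀ g : G, ∀ z ∈ Z, g • z = z := fun g z hz => hz g (Subgroup.mem_top g)
  letI act : DistribMulAction G (V ⧸ Z) :=
    { smul := fun g q => QuotientAddGroup.map Z Z (DistribSMul.toAddMonoidHom V g)
        (fun z hz => by
          show g • z ∈ Z
          rw [hZfix g z hz]; exact hz) q
      one_smul := fun q => by
        induction q using QuotientAddGroup.induction_on with
        | H x => exact congrArg QuotientAddGroup.mk (one_smul G x)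
      mul_smul := fun g h q => by
        induction q using QuotientAddGroup.induction_on with
        | H x => exact congrArg QuotientAddGroup.mk (mul_smul g h x)
      smul_zero := fun g => congrArg QuotientAddGroup.mk (smul_zero g)
      smul_add := fun g q q' => map_add _ q q' }
  have hmk : ∀ (g : G) (x : V), g • (QuotientAddGroup.mk x : V ⧸ Z) = QuotientAddGroup.mk (g • x) :=
    fun _ _ => rfl
  have hf : ∀ g : G, (∀ q : V ⧸ Z, g • q = q) → g = 1 := by
    let N : Subgroup G :=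
      { carrier := {g | ∀ q : V ⧸ Z, g • q = q}
        one_mem' := fun q => one_smul G q
        mul_mem' := fun hg hh q => by rw [mul_smul, hh q, hg q]
        inv_mem' := fun {g} hg q => by rw [inv_smul_eq_iff, hg q] }
    haveI : N.Normal := ⟨fun g hg h q => by rw [mul_smul, mul_smul, hg, smul_inv_smul]⟩
    have hN : ∀ g ∈ N, g * g = 1 := fun g hg => hfaith _ fun v => by
      have h1 := (QuotientAddGroup.eq_iff_sub_mem).1 ((hmk g v).symm.trans (hg (QuotientAddGroup.mk v)))
      have h2 := hZfix g _ h1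
      rw [smul_sub, sub_eq_iff_eq_add] at h2
      rw [mul_smul, h2, sub_add_eq_add_sub, hV, zero_sub, neg_eq_of_add_eq_zero_left (hV v)]
    have hN2 : IsPGroup 2 N := card_eq_two_pow hN
    have hsup : IsPGroup 2 (N ⊔ A : Subgroup G) := hN2.to_sup_of_normal_left (card_eq_two_pow hA)
    have hne : (N ⊔ A : Subgroup G) ≠ ⊤ := fun e => hnp (fun g => by
      obtain ⟨k, hk⟩ := hsup ⟨g, e ▸ Subgroup.mem_top g⟩
      exact ⟨k, congrArg Subtype.val hk⟩)
    have hodd := hcore N inferInstance (le_sup_left.trans (hover _ le_sup_right hne))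
    intro g hg
    have hgN : g ∈ N := hg
    have h1 : orderOf (⟨g, hgN⟩ : N) ∣ 2 :=
      orderOf_dvd_of_pow_eq_one (by rw [pow_two]; exact Subtype.ext (hN g hgN))
    have h2 : orderOf (⟨g, hgN⟩ : N) ∣ Nat.card N := orderOf_dvd_natCard _
    have h3' := Nat.eq_one_of_dvd_coprimes (Nat.coprime_two_left.2 hodd) h1 h2
    exact congrArg Subtype.val (orderOf_eq_one_iff.1 h3')
  have hlt : Nat.card (V ⧸ Z) < n := by
    haveI : Nontrivial Z := ⟨⟨⟨w, hwZ⟩, 0, fun e => hw0 (congrArg Subtype.val e)⟩⟩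
    have h2 := Finite.one_lt_card (α := Z)
    have h4 := Nat.card_pos (α := V ⧸ Z)
    rw [← hn, AddSubgroup.card_eq_card_quotient_mul_card_addSubgroup Z]
    nlinarith
  have hV' : ∀ q : V ⧸ Z, q + q = 0 := fun q => by
    induction q using QuotientAddGroup.induction_on with
    | H x => rw [← QuotientAddGroup.mk_add, hV, QuotientAddGroup.mk_zero]
  refine ih _ hlt G (V ⧸ Z) rfl hV' hf h3 hnp M A hM hover hcore hA hA1 ?_ ?_
  · intro a ha q b hb
    induction q using QuotientAddGroup.induction_on with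
    | H x =>
      rw [hmk, ← QuotientAddGroup.mk_sub, hmk]
      exact congrArg QuotientAddGroup.mk (hquad a ha x b hb)
  · have hle : Nat.card (fixV A : AddSubgroup V) ≤ Nat.card (fixV A : AddSubgroup (V ⧸ Z)) * Nat.card Z := by
      let f : (fixV A : AddSubgroup V) →+ (fixV A : AddSubgroup (V ⧸ Z)) :=
        ((QuotientAddGroup.mk' Z).comp (fixV A : AddSubgroup V).subtype).codRestrict _
          (fun x a ha => (hmk a x.1).trans (congrArg QuotientAddGroup.mk (x.2 a ha)))
      rw [AddSubgroup.card_eq_card_quotient_mul_card_addSubgroup f.ker,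
        Nat.card_congr (QuotientAddGroup.quotientKerEquivRange f).toEquiv]
      refine Nat.mul_le_mul (Nat.card_le_card_of_injective _ f.range.subtype_injective) ?_
      exact Nat.card_le_card_of_injective
        (fun x : f.ker => (⟨x.1.1, (QuotientAddGroup.eq_zero_iff _).1 (congrArg Subtype.val x.2)⟩ : Z))
        (fun x y e => Subtype.ext (Subtype.ext (congrArg Subtype.val e :)))
    rw [AddSubgroup.card_eq_card_quotient_mul_card_addSubgroup Z] at hoff
    refine Nat.le_of_mul_le_mul_right ?_ (Nat.card_pos (α := Z))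
    calc _ ≤ Nat.card A * Nat.card (fixV A : AddSubgroup V) := hoff
      _ ≤ _ := by rw [mul_assoc]; exact Nat.mul_le_mul_left _ hle

/-- A quadratic offender in a unique maximal subgroup with no even normal subgroup inside forces
an involution inverting an element of order three. -/
theorem noFF_uniqueMax {G : Type u} [Group G] [Finite G] {V : Type v} [AddCommGroup V] [Finite V]
    [DistribMulAction G V] (hV : ∀ v : V, v + v = 0) (hfaith : ∀ g : G, (∀ v : V, g • v = v) → g = 1)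
    (h3 : NoThree G) (hnp : ¬ IsPGroup 2 G) (M A : Subgroup G) (hM : M ≠ ⊤)
    (hover : ∀ L : Subgroup G, A ≤ L → L ≠ ⊤ → L ≤ M)
    (hcore : ∀ N : Subgroup G, N.Normal → N ≤ M → Odd (Nat.card N))
    (hA : ∀ a ∈ A, a * a = 1) (hA1 : A ≠ ⊥) (hquad : ∀ a ∈ A, ∀ v : V, a • v - v ∈ fixV (V := V) A)
    (hoff : Nat.card V ≤ Nat.card A * Nat.card (fixV A : AddSubgroup V)) : False :=
  unique_aux _ G V rfl hV hfaith h3 hnp M A hM hover hcore hA hA1 hquad hoff

end H82.SFree
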